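import Mathlib
import Cfsg.Prelude.Def_OddOrderLocal
import Cfsg.Statements.S1350
import Cfsg.Statements.S1353
import Cfsg.Statements.S1429
import Cfsg.Agent.Lib.Helper69.BG40.Defs
import Cfsg.Agent.Lib.Helper81.BG.S1372Core

/-!
S1440 project (helper69), package PKF: in a standard factorisation `M = K U M_σ` with `K ≠ 1`,
`M_σ ≠ 1` nilpotent, `M' ≤ F(M)` and `F(M) = M_σ · O_{σ(M)'}(F(M))`, the complement `U` is trivial.
(`U = [U, K] ≤ M' ≤ F(M)`, so `U` centralizes `Z(M_σ) ≠ 1`, against S1429.)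
-/

set_option autoImplicit false

namespace Cfsg.Agent.Lib.Helper47.BG40

open Cfsg Cfsg.Agent.Lib.Helper46 Cfsg.Agent.Lib.Helper35.BG Cfsg.Agent.Lib.Helper67.BG
  Cfsg.Agent.Lib.Helper81.BG

universe u

theorem pkF : Cfsg.Agent.Lib.Helper69.BG40.PKF.{u} := by
  intro G _ _ hG h1350 h1353 h1429 M hM K U hKU hK1 hnil hσ1 hMF hFY
  by_contra hU1
  obtain ⟨hHall, -, -⟩ := h1350 M hM
  have hUH := isPiHallOf_of_sigmaDecomposition hHall hKU
  have hUM : U ≤ M := hKU.compl.1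
  have hKM : K ≤ M := hKU.hall.1
  have hσM : sigmaCore M ≤ M := sigmaCore_le M
  -- a prime `p` dividing `|U|`
  have hUcard : Nat.card U ≠ 1 := by
    intro h
    exact hU1 (Subgroup.card_eq_one.mp h)
  obtain ⟨p, hp, hpU⟩ := Nat.exists_prime_and_dvd hUcard
  have hpF : Fact p.Prime := ⟨hp⟩
  obtain ⟨-, hpκ, hpσ⟩ := hUH.2.1 p hp hpU
  have hpM : p ∣ Nat.card M := dvd_trans hpU (Subgroup.card_dvd_of_le hUM)
  have hP1 : ¬ (∀ q : ℕ, q.Prime → q ∣ Nat.card M → q ∉ Cfsg.sigma M → q ∈ Cfsg.kappa M) :=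
    fun h => hpκ (h p hp hpM hpσ)
  -- a Sylow `p`-subgroup of `U` is a Sylow `p`-subgroup of `M`
  obtain ⟨P₀⟩ : Nonempty (Sylow p U) := inferInstance
  have hP₀ : IsSylowIn p ((P₀ : Subgroup U).map U.subtype) U := isSylowIn_of_sylow P₀
  have hPU : (P₀ : Subgroup U).map U.subtype ≤ U := hP₀.1
  have hPp : IsPGroup p ((P₀ : Subgroup U).map U.subtype) :=
    IsPGroup.of_card (n := (Nat.card U).factorization p) hP₀.2
  have hPidxU : ¬ p ∣ ((P₀ : Subgroup U).map U.subtype).relIndex U := by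
    have h1 : ((P₀ : Subgroup U).map U.subtype).relIndex U = (P₀ : Subgroup U).index := by
      unfold Subgroup.relIndex
      congr 1
      ext x
      simp [Subgroup.mem_subgroupOf]
    rw [h1]
    exact P₀.not_dvd_index
  have hPidxM : ¬ p ∣ ((P₀ : Subgroup U).map U.subtype).relIndex M := by
    rw [← Subgroup.relIndex_mul_relIndex _ U M hPU hUM]
    intro h
    rcases (Nat.Prime.dvd_mul hp).mp h with h | h
    · exact hPidxU h
    · exact hUH.2.2 p hp ⟨hp, hpκ, hpσ⟩ h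
  have hPM : IsSylowIn p ((P₀ : Subgroup U).map U.subtype) M :=
    sylIn_of_not_dvd_relIndex (hPU.trans hUM) hPp hPidxM
  obtain ⟨S, hS⟩ := hPM.exists_sylow
  have hpσκ : p ∉ Cfsg.sigma M ∪ Cfsg.kappa M := by
    rintro (h | h)
    · exact hpσ h
    · exact hpκ h
  obtain ⟨-, hC, -⟩ := h1429 M hM hP1 p hpM hpσκ S
  -- `C_{M_σ}(U) = 1`
  have hCU : sigmaCore M ⊓ Subgroup.centralizer (U : Set G) = ⊥ := by
    rw [eq_bot_iff, ← hC]
    refine inf_le_inf le_rfl (Subgroup.centralizer_le ?_)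
    have : Subgroup.closure {x : G | x ∈ (S : Subgroup M).map M.subtype ∧ x ^ p = 1} ≤ U := by
      rw [Subgroup.closure_le]
      rintro x ⟨hx, -⟩
      rw [hS] at hx
      exact hPU hx
    exact this
  -- `M_σ ≤ F(M)`
  have hσF : sigmaCore M ≤ fittingOf M :=
    le_fittingOf_of_normal_nilpotent hσM (sigmaCore_normalizer M) hnil
  -- `U ≤ M' ≤ F(M)`
  obtain ⟨k, hk, hk1⟩ := (Subgroup.ne_bot_iff_exists_ne_one (H := K)).mp hK1 |> fun ⟨⟨k, hk⟩, h⟩ =>
    (⟨k, hk, fun h' => h (Subtype.ext h')⟩ : ∃ k ∈ K, k ≠ 1)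
  have hUF : U ≤ fittingOf M :=
    (le_commutator_of_fpf hUM hKM hKU.normal hk (h1353 M hM K U hKU k hk hk1)).trans hMF
  -- `Y = O_{σ(M)'}(F(M))` centralizes `M_σ`
  set Y : Subgroup G := piCoreOf {q | q.Prime ∧ q ∉ Cfsg.sigma M} (fittingOf M) with hYdef
  have hFM : fittingOf M ≤ M := fittingOf_le M
  have hYF : Y ≤ fittingOf M := Subgroup.map_subtype_le _
  have hFY' : fittingOf M ≤ Subgroup.normalizer (Y : Set G) :=
    Cfsg.Agent.Lib.Helper67.BG.le_normalizer_map_subtype (fittingOf M) _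
  have hYcop : (Nat.card (sigmaCore M)).Coprime (Nat.card Y) := by
    apply Nat.coprime_of_dvd
    intro q hq hq1 hq2
    have hqσ : q ∈ sigma M := sigmaCore_isPi M q hq hq1
    have h1 : Nat.card Y = Nat.card (piCore {q | q.Prime ∧ q ∉ Cfsg.sigma M} ↥(fittingOf M)) := by
      rw [hYdef]
      unfold piCoreOf
      rw [Subgroup.card_map_of_injective (Subgroup.subtype_injective _)]
    rw [h1] at hq2
    exact (Cfsg.Agent.S3743.piCore_isPi _ q hq hq2).2 hqσ
  have hσY : sigmaCore M ⊓ Y = ⊥ := (Subgroup.disjoint_of_coprime_natCard hYcop).eq_bot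
  have hcomm : ∀ s ∈ sigmaCore M, ∀ y ∈ Y, s * y = y * s := by
    intro s hs y hy
    have h1 : s * y * s⁻¹ * y⁻¹ ∈ sigmaCore M := by
      have h2 : y * s⁻¹ * y⁻¹ ∈ sigmaCore M :=
        (Subgroup.mem_normalizer_iff.mp (sigmaCore_normalizer M (hFM (hYF hy))) s⁻¹).mp
          ((sigmaCore M).inv_mem hs)
      have h3 := (sigmaCore M).mul_mem hs h2
      simpa [mul_assoc] using h3
    have h2 : s * y * s⁻¹ * y⁻¹ ∈ Y := by
      have h3 : s * y * s⁻¹ ∈ Y := (Subgroup.mem_normalizer_iff.mp (hFY' (hσF hs)) y).mp hy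
      exact Y.mul_mem h3 (Y.inv_mem hy)
    have h3 : s * y * s⁻¹ * y⁻¹ ∈ sigmaCore M ⊓ Y := ⟨h1, h2⟩
    rw [hσY, Subgroup.mem_bot] at h3
    have h4 : s * y = (s * y * s⁻¹ * y⁻¹) * (y * s) := by group
    rw [h4, h3, one_mul]
  -- a non-identity central element of `M_σ`
  have : Group.IsNilpotent ↥(sigmaCore M) := hnil
  have : Nontrivial ↥(sigmaCore M) := (Subgroup.nontrivial_iff_ne_bot _).mpr hσ1
  obtain ⟨⟨z, hzσ⟩, hzc, hz1⟩ : ∃ z : ↥(sigmaCore M), z ∈ Subgroup.center ↥(sigmaCore M) ∧ z ≠ 1 := by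
    have hne := Group.IsNilpotent.center_ne_bot ↥(sigmaCore M)
    obtain ⟨⟨z, hz⟩, hz1⟩ := (Subgroup.ne_bot_iff_exists_ne_one (H := Subgroup.center ↥(sigmaCore M))).mp hne
    exact ⟨z, hz, fun h => hz1 (Subtype.ext h)⟩
  have hzcomm : ∀ s ∈ sigmaCore M, s * z = z * s := by
    intro s hs
    have h1 := (Subgroup.mem_center_iff.mp hzc) ⟨s, hs⟩
    exact congrArg Subtype.val h1
  -- `F(M) = M_σ Y` centralizes `z`
  have hFz : fittingOf M ≤ Subgroup.centralizer ({z} : Set G) := by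
    rw [hFY]
    apply sup_le
    · intro s hs
      rw [Subgroup.mem_centralizer_singleton_iff]
      exact hzcomm s hs
    · intro y hy
      rw [Subgroup.mem_centralizer_singleton_iff]
      exact (hcomm z hzσ y hy).symm
  have hzU : z ∈ sigmaCore M ⊓ Subgroup.centralizer (U : Set G) := by
    refine Subgroup.mem_inf.mpr ⟨hzσ, ?_⟩
    rw [Subgroup.mem_centralizer_iff]
    intro u hu
    exact Subgroup.mem_centralizer_singleton_iff.mp (hFz (hUF hu))
  rw [hCU, Subgroup.mem_bot] at hzU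
  exact hz1 (Subtype.ext hzU)

end Cfsg.Agent.Lib.Helper47.BG40
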